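import Cfsg.Agent.MonsterU.CoFrameF
import Cfsg.Agent.MonsterU.CoFrameIrr
import Cfsg.Agent.MonsterU.InvPairQ
import Cfsg.Agent.MonsterU.AmalSideOf

/-!
# Elements of order 23 in `Co1`

* `mem_zpowers` : `C(X) = ⟨X⟩` for the element `X` of order 23;
* `two_fix` : the centraliser of `X` in a 2-group is trivial;
* `card_two` : an `X`-invariant 2-subgroup of `Co1` has order `1` or `2^11`;
* `exists_conj` : every element of order 23 has a power conjugate to `X`.
-/

set_option autoImplicit false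

open Cfsg

namespace Cfsg.Agent.H861.RCoA

open Cfsg.Agent.MonsterU
open Cfsg.Agent.MonsterU.Lam2 (L2 IsType cl cl_surjective qf qf_smul qf_cl_eq_zero)
open Cfsg.Agent.MonsterU.CoFrame
open Cfsg.Agent.MonsterU.CoFrameL2
open Cfsg.Agent.MonsterU.CoFrameIrr
open Cfsg.Agent.SporadicA.Co0Mono hiding smul_add smul_sub smul_neg smul_zero
open Cfsg.Agent.SporadicA.Co1Simple
open Cfsg.Agent.CoOneType.CoOneE (pr pr_surjective E mem_E mem_center_iff card_E)
open Cfsg.Agent.SporadicStructure.Co0Base (e8 e8_coe)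
open Cfsg.Spor (Co1)

theorem fixed_X {x : L2} (h : X • x = x) : x = 0 ∨ x = f0 ∨ x = cl u0 ∨ x = cl (u0 + e8 none) := by
  obtain ⟨v, rfl⟩ := cl_surjective x
  have h1 : CoFrame.Cong (x23 • v) v := (cong_iff_cl _ _).2 h
  rcases CoFrame23.fixed_cong' h1 with h2 | h2 | h2 | h2
  · left; rw [(cong_iff_cl _ _).1 h2, map_zero]
  · right; left; exact (cong_iff_cl _ _).1 h2
  · right; right; left; exact (cong_iff_cl _ _).1 h2
  · right; right; right; exact (cong_iff_cl _ _).1 h2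

theorem norm_u0 : sqNorm (u0 : GolayPt → ℤ) = 32 := by
  have h : (u0 : GolayPt → ℤ) = fun i => if i = none then -3 else 1 := funext CoFrameAct.u0_coe
  rw [h]
  decide

theorem norm_u0' : sqNorm ((u0 + e8 none : leechLattice) : GolayPt → ℤ) = 48 := by
  have h : ((u0 + e8 none : leechLattice) : GolayPt → ℤ) = fun i => if i = none then 5 else 1 := by
    funext i
    show (u0 : GolayPt → ℤ) i + ((e8 none : leechLattice) : GolayPt → ℤ) i = _
    rw [CoFrameAct.u0_coe, coe_e8]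
    split_ifs <;> norm_num
  rw [h]
  decide

theorem type_u0 : IsType 2 (cl u0) := ⟨u0, norm_u0, rfl⟩

/-- the frame class is the only class of type 4 fixed by `X` -/
theorem eq_f0 {x : L2} (hx : IsType 4 x) (h : X • x = x) : x = f0 := by
  rcases fixed_X h with h1 | h1 | h1 | h1
  · rw [h1] at hx; exact absurd hx InvPair.not_zero_four
  · exact h1
  · rw [h1] at hx; exact absurd hx (fun h => InvPair.not_two_four type_u0 h)
  · exfalso
    obtain ⟨v, hv, hvx⟩ := hx
    have h2 : qf x = 0 := by rw [← hvx, qf_cl_eq_zero, hv]; norm_num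
    rw [h1, qf_cl_eq_zero, norm_u0'] at h2
    norm_num at h2

/-- `C(X) ≤ F`. -/
theorem mem_F_of_comm {s : Co1} (h : X * s = s * X) : s ∈ F := by
  rw [mem_F_iff]
  refine eq_f0 (AmalSideOf.type_f0.smul1 s) ?_
  rw [← mul_smul, h, mul_smul, smul_f0 X_mem_F]

/-- `C(X) = ⟨X⟩`. -/
theorem mem_zpowers {s : Co1} (h : X * s = s * X) : s ∈ Subgroup.zpowers X := by
  have hF := mem_F_of_comm h
  obtain ⟨c, σ, rfl⟩ := CoFrameF.exists_of_mem_F hF
  have hX : X = pr (signCo0 0 * permCo0 shift) := CoFrameF.x_eq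
  have h1 : shift * σ = σ * shift := by
    have e1 := CoFrameF.sp_mul 0 c shift σ
    have e2 := CoFrameF.sp_mul c 0 σ shift
    rw [hX, ← map_mul, ← map_mul, e1, e2] at h
    exact (CoFrameF.pr_sp_eq h).1
  obtain ⟨n, hn⟩ := CoFrame23.centralizer_shift h1.symm
  have hXn : X ^ n = pr (permCo0 σ) := by
    rw [hn, ← CoFrame23.x23_pow_eq, map_pow]; rfl
  have h2 : pr (signCo0 c * permCo0 σ) = pr (signCo0 c) * X ^ n := by rw [hXn, map_mul]
  rw [h2] at h ⊢
  have h3 : X * pr (signCo0 c) * X⁻¹ = pr (signCo0 c) := by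
    have h4 : X * pr (signCo0 c) * X ^ n = pr (signCo0 c) * X * X ^ n := by
      rw [mul_assoc, h, mul_assoc, mul_assoc, ← pow_succ, ← pow_succ']
    have h5 := mul_right_cancel h4
    rw [h5, mul_inv_cancel_right]
  rw [fix_E (⟨c, rfl⟩ : pr (signCo0 c) ∈ E) h3, one_mul]
  exact ⟨n, by simp⟩

theorem orderOf_X : orderOf X = 23 := by
  have : Fact (Nat.Prime 23) := ⟨by norm_num⟩
  refine orderOf_eq_prime X_pow ?_
  intro h
  have h1 : pr x23 = 1 := h
  rcases CoFrameF.pr_eq_one.1 h1 with h2 | h2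
  · exact x23_ne_one h2
  · have h3 := x23_pow
    rw [h2] at h3
    have h4 : (signCo0 allOne) ^ 2 = 1 := by rw [pow_two, signCo0_mul_self]
    have h5 : (signCo0 allOne) ^ 23 = signCo0 allOne := by
      rw [show (23 : ℕ) = 2 * 11 + 1 by norm_num, pow_succ, pow_mul, h4, one_pow, one_mul]
    rw [h5] at h3
    exact Cfsg.Agent.CoOneType.CoOneE.allOne_ne h3

/-- A 2-element commuting with `X` is trivial. -/
theorem two_fix {s : Co1} {k : ℕ} (hs : s ^ 2 ^ k = 1) (h : X * s = s * X) : s = 1 := by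
  have h1 := mem_zpowers h
  have h2 : s ^ 23 = 1 := by
    obtain ⟨n, rfl⟩ := h1
    show (X ^ n) ^ 23 = 1
    rw [← zpow_natCast, ← zpow_mul, mul_comm, zpow_mul, zpow_natCast, X_pow, one_zpow]
  have h3 : orderOf s ∣ 23 := orderOf_dvd_of_pow_eq_one h2
  have h4 : orderOf s ∣ 2 ^ k := orderOf_dvd_of_pow_eq_one hs
  have h5 : Nat.Coprime 23 (2 ^ k) := Nat.Coprime.pow_right k (by norm_num)
  rw [← orderOf_eq_one_iff]
  exact Nat.eq_one_of_dvd_coprimes h5 h3 h4

/-- An `X`-invariant 2-subgroup has order `1` or `2^11`. -/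
theorem card_two (O : Subgroup Co1) (h2 : IsPGroup 2 O) (hX : ∀ s ∈ O, X * s * X⁻¹ ∈ O) :
    Nat.card O = 1 ∨ Nat.card O = 2 ^ 11 := by
  have hfin : Finite Co1 := Nat.finite_of_card_ne_zero (by rw [CoFrameF.card_Co1]; norm_num)
  obtain ⟨k, hk⟩ := IsPGroup.iff_card.1 h2
  have hd : 2 ^ k ∣ 4157776806543360000 := by
    rw [← hk, ← CoFrameF.card_Co1]; exact Subgroup.card_subgroup_dvd_card O
  have hk21 : k ≤ 21 := by
    by_contra hlt
    have h1 : 2 ^ 22 ∣ 4157776806543360000 := (pow_dvd_pow 2 (by omega)).trans hd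
    norm_num at h1
  have hit : ∀ (n : ℕ) (s : Spor.Co1), (fun t => X * t * X⁻¹)^[n] s = X ^ n * s * (X ^ n)⁻¹ := by
    intro n
    induction n with
    | zero => intro s; simp
    | succ n ih =>
      intro s
      rw [Function.iterate_succ_apply, ih, pow_succ]
      group
  have h := card_mod (O : Set Spor.Co1) (fun t => X * t * X⁻¹) hX (fun s _ => by
    rw [hit, X_pow]; simp)
  have h3 : Nat.card {s : Spor.Co1 // s ∈ (O : Set Spor.Co1) ∧ X * s * X⁻¹ = s} = 1 := by
    have key : ∀ s ∈ O, X * s * X⁻¹ = s → s = 1 := by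
      intro s hs hc
      obtain ⟨m, hm⟩ := h2 ⟨s, hs⟩
      refine two_fix (k := m) (congrArg Subtype.val hm) ?_
      rw [mul_inv_eq_iff_eq_mul] at hc
      exact hc
    rw [Nat.card_eq_one_iff_unique]
    refine ⟨⟨fun a b => Subtype.ext ?_⟩, ⟨⟨1, O.one_mem, by simp⟩⟩⟩
    rw [key a a.2.1 a.2.2, key b b.2.1 b.2.2]
  rw [h3] at h
  have h4 : Nat.card O ≡ 1 [MOD 23] := h
  rw [hk] at h4 ⊢
  unfold Nat.ModEq at h4
  interval_cases k <;> simp at h4 ⊢

/-- Every element of order 23 has a power conjugate to `X`. -/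
theorem exists_conj {s : Co1} (hs : orderOf s = 23) : ∃ (g : Co1) (n : ℕ), g * s ^ n * g⁻¹ = X := by
  have hfin : Finite Co1 := Nat.finite_of_card_ne_zero (by rw [CoFrameF.card_Co1]; norm_num)
  have hp : Fact (Nat.Prime 23) := ⟨by norm_num⟩
  have hfac : (Nat.card Co1).factorization 23 = 1 := by
    rw [CoFrameF.card_Co1, show (4157776806543360000 : ℕ) = 23 * 180772904632320000 by norm_num,
      Nat.factorization_mul (by norm_num) (by norm_num), Finsupp.add_apply,
      Nat.Prime.factorization_self (by norm_num),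
      Nat.factorization_eq_zero_of_not_dvd (by norm_num)]
  have hS : ∀ t : Co1, orderOf t = 23 →
      Nat.card (Subgroup.zpowers t) = 23 ^ (Nat.card Co1).factorization 23 := by
    intro t ht
    rw [Nat.card_zpowers, ht, hfac, pow_one]
  obtain ⟨g, hg⟩ := MulAction.exists_smul_eq Co1 (Sylow.ofCard _ (hS s hs)) (Sylow.ofCard _ (hS X orderOf_X))
  have h1 : g⁻¹ * X * g ∈ Subgroup.zpowers s := by
    have h2 : X ∈ ((g • (Sylow.ofCard _ (hS s hs)) : Sylow 23 Co1) : Subgroup Co1) := by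
      rw [hg]; exact Subgroup.mem_zpowers X
    rw [Sylow.coe_subgroup_smul, Subgroup.mem_pointwise_smul_iff_inv_smul_mem] at h2
    have e : (MulAut.conj g)⁻¹ • X = g⁻¹ * X * g := by
      rw [← map_inv]
      show g⁻¹ * X * (g⁻¹)⁻¹ = _
      rw [inv_inv]
    rw [e] at h2
    exact h2
  obtain ⟨n, hn⟩ := Subgroup.mem_zpowers_iff.1 h1
  obtain ⟨m, hm⟩ : ∃ m : ℕ, s ^ m = s ^ n := by
    have h2 : s ^ n ∈ Submonoid.powers s := by
      rw [mem_powers_iff_mem_zpowers]
      exact ⟨n, rfl⟩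
    exact h2
  refine ⟨g, m, ?_⟩
  rw [hm, hn]
  group

end Cfsg.Agent.H861.RCoA
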