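import Mathlib

/-!
# Small facts on conjugation and indices
-/

set_option autoImplicit false

namespace Cfsg.Agent.H861.RUtil

variable {G : Type*} [Group G]

/-- The number of conjugates of `t` under `D` is the index of the centraliser. -/
theorem card_conj (D : Subgroup G) (t : G) :
    Nat.card {x : G // ∃ d ∈ D, d * t * d⁻¹ = x} = (Subgroup.centralizer ({t} : Set G)).relIndex D := by
  let f : D →* ConjAct G := (ConjAct.toConjAct (G := G)).toMonoidHom.comp D.subtype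
  let _ : MulAction D G := MulAction.compHom G f
  have hsmul : ∀ (d : D) (x : G), d • x = (d : G) * x * (d : G)⁻¹ := fun d x => rfl
  have h1 : Nat.card (MulAction.orbit D t) = (MulAction.stabilizer D t).index :=
    (MulAction.index_stabilizer D t).symm ▸ rfl
  have h2 : Nat.card {x : G // ∃ d ∈ D, d * t * d⁻¹ = x} = Nat.card (MulAction.orbit D t) := by
    refine Nat.card_congr (Equiv.subtypeEquivRight fun x => ?_)
    rw [MulAction.mem_orbit_iff]
    constructor
    · rintro ⟨d, hd, rfl⟩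
      exact ⟨⟨d, hd⟩, rfl⟩
    · rintro ⟨⟨d, hd⟩, rfl⟩
      exact ⟨d, hd, rfl⟩
  have h3 : MulAction.stabilizer D t = (Subgroup.centralizer ({t} : Set G)).subgroupOf D := by
    ext d
    rw [MulAction.mem_stabilizer_iff, hsmul, Subgroup.mem_subgroupOf,
      Subgroup.mem_centralizer_singleton_iff, mul_inv_eq_iff_eq_mul]
  rw [h2, h1, h3]
  rfl

/-- `|H ∩ D| · |D : H ∩ D| = |D|` -/
theorem card_inf_mul (H D : Subgroup G) : Nat.card ↥(H ⊓ D) * H.relIndex D = Nat.card D := by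
  have h := Subgroup.relIndex_inf_mul_relIndex ⊥ H D
  rwa [bot_inf_eq, Subgroup.relIndex_bot_left, Subgroup.relIndex_bot_left] at h

/-- `|D| = |D ∩ C(t)| · |t^D|` -/
theorem card_mul_conj (D : Subgroup G) (t : G) :
    Nat.card ↥(Subgroup.centralizer ({t} : Set G) ⊓ D) * Nat.card {x : G // ∃ d ∈ D, d * t * d⁻¹ = x} =
      Nat.card D := by
  rw [card_conj, card_inf_mul]

/-- counting fixed points of a map of order `p` -/
theorem card_mod {p : ℕ} [Fact p.Prime] {α : Type*} (S : Set α) [Finite S] (f : α → α)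
    (hS : ∀ x ∈ S, f x ∈ S) (hf : ∀ x ∈ S, f^[p] x = x) :
    Nat.card S ≡ Nat.card {x : α // x ∈ S ∧ f x = x} [MOD p] := by
  classical
  have : Fintype S := Fintype.ofFinite S
  let g : Function.End S := fun x => ⟨f x, hS x x.2⟩
  have hg : ∀ (n : ℕ) (x : S), ((g ^ n) x : α) = f^[n] x := by
    intro n
    induction n with
    | zero => intro x; rfl
    | succ n ih =>
      intro x
      rw [pow_succ, Function.iterate_succ_apply]
      exact ih (g x)
  have h1 : g ^ p ^ 1 = 1 := by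
    rw [pow_one]
    funext x
    apply Subtype.ext
    rw [hg]
    exact hf x x.2
  have h2 := Equiv.Perm.card_fixedPoints_modEq h1
  rw [← Nat.card_eq_fintype_card, ← Nat.card_eq_fintype_card] at h2
  have h3 : Nat.card (Function.fixedPoints g) = Nat.card {x : α // x ∈ S ∧ f x = x} := by
    refine Nat.card_congr
      { toFun := fun x => ⟨x.1.1, x.1.2, congrArg Subtype.val x.2⟩
        invFun := fun x => ⟨⟨x.1, x.2.1⟩, Subtype.ext x.2.2⟩
        left_inv := fun x => rfl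
        right_inv := fun x => rfl }
  rw [← h3]
  exact h2

theorem conj_iter (g : G) (n : ℕ) (s : G) : (fun t => g * t * g⁻¹)^[n] s = g ^ n * s * (g ^ n)⁻¹ := by
  induction n generalizing s with
  | zero => simp
  | succ n ih =>
    rw [Function.iterate_succ_apply, ih, pow_succ]
    group

/-- counting the elements commuting with an element of order `p` -/
theorem card_mod_conj {p : ℕ} [Fact p.Prime] (S : Set G) [Finite S] (g : G) (hg : g ^ p = 1)
    (hS : ∀ x ∈ S, g * x * g⁻¹ ∈ S) :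
    Nat.card S ≡ Nat.card {x : G // x ∈ S ∧ g * x = x * g} [MOD p] := by
  have h := card_mod (p := p) S (fun t => g * t * g⁻¹) hS (fun x _ => by
    rw [conj_iter, hg]; simp)
  have h2 : Nat.card {x : G // x ∈ S ∧ g * x * g⁻¹ = x} = Nat.card {x : G // x ∈ S ∧ g * x = x * g} := by
    refine Nat.card_congr (Equiv.subtypeEquivRight fun x => ?_)
    rw [mul_inv_eq_iff_eq_mul]
  rw [← h2]
  exact h

/-- `|H ⊔ R| |H ∩ R| = |H| |R|` for a normal subgroup `R` -/
theorem card_sup_mul (H R : Subgroup G) [R.Normal] :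
    Nat.card ↥(H ⊔ R) * Nat.card ↥(R ⊓ H) = Nat.card H * Nat.card R := by
  have h1 := card_inf_mul R H
  have h2 := card_inf_mul R (H ⊔ R)
  rw [inf_eq_left.2 (le_sup_right : R ≤ H ⊔ R), Subgroup.relIndex_sup_right] at h2
  rw [← h1, ← h2]
  ring

/-- For `R` normal `|R : R ∩ H|` divides `|G : H|`. -/
theorem relIndex_dvd_index [Finite G] (H R : Subgroup G) [R.Normal] : H.relIndex R ∣ H.index := by
  have h1 := card_sup_mul H R
  have h2 := card_inf_mul H R
  have h3 := card_inf_mul H (H ⊔ R)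
  rw [inf_eq_left.2 (le_sup_left : H ≤ H ⊔ R)] at h3
  have h4 : H.relIndex (H ⊔ R) = H.relIndex R := by
    have hH : 0 < Nat.card H := Nat.card_pos
    have hI : 0 < Nat.card ↥(H ⊓ R) := Nat.card_pos
    rw [inf_comm] at h1
    rw [← h3, ← h2] at h1
    have h5 : H.relIndex (H ⊔ R) * (Nat.card H * Nat.card ↥(H ⊓ R)) =
        H.relIndex R * (Nat.card H * Nat.card ↥(H ⊓ R)) := by
      calc _ = Nat.card H * H.relIndex (H ⊔ R) * Nat.card ↥(H ⊓ R) := by ring
        _ = _ := by rw [h1]; ring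
    exact Nat.eq_of_mul_eq_mul_right (Nat.mul_pos hH hI) h5
  rw [← h4, ← Subgroup.relIndex_mul_index (le_sup_left : H ≤ H ⊔ R)]
  exact Dvd.intro _ rfl

/-- A normal subgroup of order prime to the prime index of `H` is contained in `H`. -/
theorem le_of_prime_index [Finite G] {H R : Subgroup G} [R.Normal] {p : ℕ} (hp : p.Prime)
    (hH : H.index = p) (hR : ¬ p ∣ Nat.card R) : R ≤ H := by
  have h1 := relIndex_dvd_index H R
  rw [hH] at h1
  rcases (Nat.dvd_prime hp).1 h1 with h2 | h2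
  · exact Subgroup.relIndex_eq_one.1 h2
  · exfalso
    apply hR
    rw [← h2, ← card_inf_mul H R]
    exact Dvd.intro_left _ rfl

/-- A subgroup of prime index is maximal. -/
theorem eq_top_of_prime_index {H K : Subgroup G} {p : ℕ} (hp : p.Prime) (hH : H.index = p) (hK : H ≤ K)
    {g : G} (hg : g ∈ K) (hgH : g ∉ H) : K = ⊤ := by
  have h1 := Subgroup.relIndex_mul_index hK
  rw [hH] at h1
  have h2 : H.relIndex K ≠ 1 := fun h => hgH (Subgroup.relIndex_eq_one.1 h hg)
  have h3 : H.relIndex K ∣ p := ⟨_, h1.symm⟩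
  rcases (Nat.dvd_prime hp).1 h3 with h4 | h4
  · exact absurd h4 h2
  · rw [h4] at h1
    have h5 : K.index = 1 := by
      have := hp.pos
      exact Nat.eq_of_mul_eq_mul_left this (by rw [h1, mul_one])
    exact Subgroup.index_eq_one.1 h5

/-- a nontrivial element of 2-power order has a power which is an involution -/
theorem exists_invol {x : G} {k : ℕ} (hx : x ^ 2 ^ k = 1) (hne : x ≠ 1) :
    ∃ m : ℕ, x ^ m ≠ 1 ∧ x ^ m * x ^ m = 1 := by
  induction k with
  | zero => rw [pow_zero, pow_one] at hx; exact absurd hx hne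
  | succ k ih =>
    by_cases h : x ^ 2 ^ k = 1
    · exact ih h
    · exact ⟨2 ^ k, h, by rw [← pow_add, ← two_mul, ← pow_succ', hx]⟩

theorem mem_of_coprime_pow {S : Subgroup G} {x : G} {a b : ℕ} (hab : Nat.Coprime a b) (ha : x ^ a ∈ S)
    (hb : x ^ b ∈ S) : x ∈ S := by
  have h := Nat.gcd_eq_gcd_ab a b
  rw [hab] at h
  have h1 : x = (x ^ a) ^ (Nat.gcdA a b) * (x ^ b) ^ (Nat.gcdB a b) := by
    rw [← zpow_natCast, ← zpow_natCast, ← zpow_mul, ← zpow_mul, ← zpow_add, ← h]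
    simp
  rw [h1]
  exact S.mul_mem (S.zpow_mem ha _) (S.zpow_mem hb _)

/-- The section lemma: an element `f` of order 3 commuting with `u` modulo `U` acts trivially on a section of order
`2^11` on which `U` is trivial and `u` is irreducible. -/
theorem section_trivial {U A B : Subgroup G} {f u : G} (hAB : A ≤ B) (hBU : B ≤ U) (f3 : f ^ 3 = 1)
    (hfu : f * u * f⁻¹ * u⁻¹ ∈ U) (fA : ∀ x ∈ A, f * x * f⁻¹ ∈ A) (fB : ∀ x ∈ B, f * x * f⁻¹ ∈ B)
    (uA : ∀ x ∈ A, u * x * u⁻¹ ∈ A) (uB : ∀ x ∈ B, u * x * u⁻¹ ∈ B)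
    (hc : ∀ g ∈ U, ∀ x ∈ B, g * x * g⁻¹ * x⁻¹ ∈ A)
    (irr : ∀ T : Subgroup G, A ≤ T → T ≤ B → (∀ x ∈ T, u * x * u⁻¹ ∈ T) → T = A ∨ T = B)
    (card : Nat.card B = 2 ^ 11 * Nat.card A) (hA0 : Nat.card A ≠ 0) :
    ∀ x ∈ B, f * x * f⁻¹ * x⁻¹ ∈ A := by
  have hnorm : ∀ g ∈ U, ∀ x ∈ A, g * x * g⁻¹ ∈ A := by
    intro g hg x hx
    have h1 := A.mul_mem (hc g hg x (hAB hx)) hx
    have e : g * x * g⁻¹ * x⁻¹ * x = g * x * g⁻¹ := by group
    rwa [e] at h1
  let T : Subgroup G :=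
    { carrier := {x | x ∈ B ∧ f * x * f⁻¹ * x⁻¹ ∈ A}
      one_mem' := ⟨B.one_mem, by
        have e : f * 1 * f⁻¹ * 1⁻¹ = 1 := by group
        rw [e]; exact A.one_mem⟩
      mul_mem' := by
        rintro a b ⟨ha, ha'⟩ ⟨hb, hb'⟩
        refine ⟨B.mul_mem ha hb, ?_⟩
        have h1 := hnorm _ (hBU ha) _ hb'
        have h3 : f * (a * b) * f⁻¹ * (a * b)⁻¹ = (f * a * f⁻¹ * a⁻¹) * (a * (f * b * f⁻¹ * b⁻¹) * a⁻¹) := by
          group
        rw [h3]
        exact A.mul_mem ha' h1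
      inv_mem' := by
        rintro a ⟨ha, ha'⟩
        refine ⟨B.inv_mem ha, ?_⟩
        have h1 := hnorm a⁻¹ (U.inv_mem (hBU ha)) _ (A.inv_mem ha')
        have e : f * a⁻¹ * f⁻¹ * a⁻¹⁻¹ = a⁻¹ * (f * a * f⁻¹ * a⁻¹)⁻¹ * a⁻¹⁻¹ := by group
        rw [e]; exact h1 }
  have hAT : A ≤ T := by
    intro x hx
    exact ⟨hAB hx, A.mul_mem (fA x hx) (A.inv_mem hx)⟩
  have hTB : T ≤ B := fun x hx => hx.1
  have hTu : ∀ x ∈ T, u * x * u⁻¹ ∈ T := by
    rintro x ⟨hx, hx'⟩
    refine ⟨uB x hx, ?_⟩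
    set w := f * u * f⁻¹ * u⁻¹ with hw
    set a := f * x * f⁻¹ * x⁻¹ with ha
    have h1 : f * (u * x * u⁻¹) * f⁻¹ * (u * x * u⁻¹)⁻¹ =
        (w * (u * (a * x) * u⁻¹) * w⁻¹ * (u * (a * x) * u⁻¹)⁻¹) * (u * a * u⁻¹) := by
      rw [hw, ha]; group
    rw [h1]
    exact A.mul_mem (hc w hfu _ (uB _ (B.mul_mem (hAB hx') hx))) (uA _ hx')
  rcases irr T hAT hTB hTu with h | h
  · exfalso
    let A' : Subgroup B := A.subgroupOf B
    have hn : A'.Normal := by
      constructor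
      intro x hx g
      exact hnorm _ (hBU g.2) _ hx
    let cf : B →* B :=
      { toFun := fun x => ⟨f * x * f⁻¹, fB x x.2⟩
        map_one' := Subtype.ext (by show f * 1 * f⁻¹ = 1; group)
        map_mul' := fun x y => Subtype.ext (by show f * (x * y) * f⁻¹ = f * x * f⁻¹ * (f * y * f⁻¹); group) }
    have hle : A' ≤ A'.comap cf := fun x hx => fA _ hx
    let q : B ⧸ A' → B ⧸ A' := QuotientGroup.map A' A' cf hle
    have hidx : Nat.card (B ⧸ A') = 2 ^ 11 := by
      have h1 := Subgroup.card_eq_card_quotient_mul_card_subgroup A'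
      have h2 : Nat.card A' = Nat.card A := Nat.card_congr (Subgroup.subgroupOfEquivOfLe hAB).toEquiv
      rw [card, h2] at h1
      exact (Nat.eq_of_mul_eq_mul_right (Nat.pos_of_ne_zero hA0) h1).symm
    have hfin : Finite (B ⧸ A') := Nat.finite_of_card_ne_zero (by rw [hidx]; norm_num)
    have : Fact (Nat.Prime 3) := ⟨Nat.prime_three⟩
    have hq : ∀ x : B, q (QuotientGroup.mk x) = QuotientGroup.mk (cf x) := fun x => rfl
    have h3 := card_mod (p := 3) (Set.univ : Set (B ⧸ A')) q (fun _ _ => trivial) (by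
      intro y _
      obtain ⟨x, rfl⟩ := QuotientGroup.mk_surjective y
      show q (q (q (QuotientGroup.mk x))) = _
      rw [hq, hq, hq]
      congr 1
      apply Subtype.ext
      show f * (f * (f * x * f⁻¹) * f⁻¹) * f⁻¹ = x
      have e : f * (f * (f * (x : G) * f⁻¹) * f⁻¹) * f⁻¹ = f ^ 3 * x * (f ^ 3)⁻¹ := by
        rw [pow_succ, pow_two]; group
      rw [e, f3]; group)
    have h4 : Nat.card {x : B ⧸ A' // x ∈ (Set.univ : Set (B ⧸ A')) ∧ q x = x} = 1 := by
      have key : ∀ y : B ⧸ A', q y = y → y = 1 := by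
        intro y hy
        obtain ⟨x, rfl⟩ := QuotientGroup.mk_surjective y
        rw [hq, QuotientGroup.eq] at hy
        have h5 : ((cf x)⁻¹ * x : B) ∈ A' := hy
        have h6 : (f * x * f⁻¹)⁻¹ * (x : G) ∈ A := h5
        have h7 := hnorm x (hBU x.2) _ (A.inv_mem h6)
        have e : (x : G) * ((f * x * f⁻¹)⁻¹ * (x : G))⁻¹ * (x : G)⁻¹ = f * x * f⁻¹ * (x : G)⁻¹ := by group
        rw [e] at h7
        have h8 : (x : G) ∈ T := ⟨x.2, h7⟩
        rw [h] at h8
        rw [QuotientGroup.eq_one_iff]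
        exact h8
      rw [Nat.card_eq_one_iff_unique]
      refine ⟨⟨fun a b => Subtype.ext ?_⟩, ⟨⟨1, trivial, ?_⟩⟩⟩
      · rw [key a a.2.2, key b b.2.2]
      · show q (QuotientGroup.mk 1) = QuotientGroup.mk 1
        rw [hq, map_one]
    rw [h4, Nat.card_univ, hidx] at h3
    revert h3
    decide
  · intro x hx
    rw [← h] at hx
    exact hx.2

/-- coprime action on two steps -/
theorem comm_of_section {U A : Subgroup G} (h2 : IsPGroup 2 U) (hA : A ≤ U) {f x : G} (f3 : f ^ 3 = 1)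
    (fA : ∀ a ∈ A, f * a = a * f) (hx : f * x * f⁻¹ * x⁻¹ ∈ A) : f * x = x * f := by
  set a := f * x * f⁻¹ * x⁻¹ with ha
  have h1 : f * x * f⁻¹ = a * x := by rw [ha]; group
  have h3 : f * a * f⁻¹ = a := by rw [fA a hx]; group
  have h4 : f * (f * (f * x * f⁻¹) * f⁻¹) * f⁻¹ = a * a * a * x := by
    have e1 : f * (a * x) * f⁻¹ = (f * a * f⁻¹) * (f * x * f⁻¹) := by group
    have e2 : f * (a * (a * x)) * f⁻¹ = (f * a * f⁻¹) * ((f * a * f⁻¹) * (f * x * f⁻¹)) := by group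
    rw [h1, e1, h3, h1, e2, h3, h1]; group
  have h5 : f * (f * (f * x * f⁻¹) * f⁻¹) * f⁻¹ = f ^ 3 * x * (f ^ 3)⁻¹ := by
    rw [pow_succ, pow_two]; group
  rw [h5, f3] at h4
  have h6 : a * a * a = 1 := by
    have : (1 : G) * x * 1⁻¹ = x := by group
    rw [this] at h4
    exact mul_eq_right.1 h4.symm
  obtain ⟨k, hk⟩ := h2 ⟨a, hA hx⟩
  have hk' : a ^ 2 ^ k = 1 := congrArg Subtype.val hk
  have h7 : a ∈ (⊥ : Subgroup G) := mem_of_coprime_pow (a := 3) (b := 2 ^ k)
    (Nat.Coprime.pow_right k (by norm_num)) (by rw [pow_succ, pow_two, h6]; exact Subgroup.mem_bot.2 rfl)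
    (by rw [hk']; exact Subgroup.mem_bot.2 rfl)
  rw [Subgroup.mem_bot.1 h7, one_mul] at h1
  rw [← mul_inv_eq_iff_eq_mul]; exact h1

end Cfsg.Agent.H861.RUtil
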