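import Cfsg.Agent.H861.RCoA
import Cfsg.Agent.Transfer.Extraspecial

/-!
# A normal 2-subgroup of order `2^11`: its preimage in `Co0` is elementary abelian
-/

set_option autoImplicit false

open Cfsg

namespace Cfsg.Agent.H861.RCoB

open Cfsg.Agent.MonsterU
open Cfsg.Agent.MonsterU.CoFrameL2
open Cfsg.Agent.MonsterU.CoFrameIrr
open Cfsg.Agent.SporadicA.Co0Mono hiding smul_add smul_sub smul_neg smul_zero
open Cfsg.Agent.SporadicA.Co1Simple
open Cfsg.Agent.CoOneType.CoOneE (pr pr_surjective E mem_E mem_center_iff card_E)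
open Cfsg.Spor (Co1)
open Cfsg.Agent.H861.RCoA
open scoped commutatorElement

/-- a subgroup `K` containing `X` with a normal 2-subgroup `O` -/
structure Hyp (K O : Subgroup Co1) : Prop where
  le : O ≤ K
  normal : ∀ k ∈ K, ∀ s ∈ O, k * s * k⁻¹ ∈ O
  two : IsPGroup 2 O
  ne : O ≠ ⊥
  X : X ∈ K
  card : Nat.card K = Nat.card O * Nat.card M24

instance : Finite Co1 := Nat.finite_of_card_ne_zero (by rw [CoFrameF.card_Co1]; norm_num)

variable {K O : Subgroup Co1} (H : Hyp K O)

include H

theorem card_O : Nat.card O = 2 ^ 11 := by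
  rcases card_two O H.two (H.normal X H.X) with h | h
  · exact absurd (Subgroup.card_eq_one.1 h) H.ne
  · exact h

theorem irr (T : Subgroup Co1) (hT : T ≤ O) (hX : ∀ s ∈ T, X * s * X⁻¹ ∈ T) : T = ⊥ ∨ T = O := by
  have h2 : IsPGroup 2 T := H.two.to_le hT
  rcases card_two T h2 hX with h | h
  · left; exact Subgroup.card_eq_one.1 h
  · right; exact Subgroup.eq_of_le_of_card_ge hT (by rw [h, card_O H])

theorem comm : ∀ s ∈ O, ∀ t ∈ O, s * t = t * s := by
  let T : Subgroup Co1 := O ⊓ Subgroup.centralizer (O : Set Co1)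
  have hmem : ∀ s, s ∈ T ↔ s ∈ O ∧ ∀ t ∈ O, t * s = s * t := fun s => by
    rw [Subgroup.mem_inf, Subgroup.mem_centralizer_iff]; rfl
  have hX : ∀ s ∈ T, X * s * X⁻¹ ∈ T := by
    intro s hs
    rw [hmem] at hs ⊢
    refine ⟨H.normal X H.X s hs.1, fun t ht => ?_⟩
    have h1 := hs.2 (X⁻¹ * t * X) (by
      have := H.normal X⁻¹ (K.inv_mem H.X) t ht
      rwa [inv_inv] at this)
    calc t * (X * s * X⁻¹) = X * ((X⁻¹ * t * X) * s) * X⁻¹ := by group
      _ = X * (s * (X⁻¹ * t * X)) * X⁻¹ := by rw [h1]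
      _ = X * s * X⁻¹ * t := by group
  rcases irr H T inf_le_left hX with h | h
  · exfalso
    have hnt : Nontrivial O := (Subgroup.nontrivial_iff_ne_bot O).2 H.ne
    have hcn := H.two.center_nontrivial
    obtain ⟨c, hc⟩ := exists_ne (1 : Subgroup.center O)
    have h1 : ((c : O) : Co1) ∈ T := by
      rw [hmem]
      refine ⟨c.1.2, fun t ht => ?_⟩
      exact congrArg Subtype.val (Subgroup.mem_center_iff.1 c.2 ⟨t, ht⟩)
    rw [h, Subgroup.mem_bot] at h1
    exact hc (Subtype.ext (Subtype.ext h1))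
  · intro s hs t ht
    rw [← h] at hs
    exact (((hmem s).1 hs).2 t ht).symm

theorem sq : ∀ s ∈ O, s * s = 1 := by
  let T : Subgroup Co1 :=
    { carrier := {s | s ∈ O ∧ s * s = 1}
      one_mem' := ⟨O.one_mem, one_mul 1⟩
      mul_mem' := by
        rintro a b ⟨ha, ha'⟩ ⟨hb, hb'⟩
        refine ⟨O.mul_mem ha hb, ?_⟩
        have h1 := comm H b hb a ha
        calc a * b * (a * b) = a * (b * a) * b := by group
          _ = (a * a) * (b * b) := by rw [h1]; group
          _ = 1 := by rw [ha', hb', one_mul]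
      inv_mem' := by
        rintro a ⟨ha, ha'⟩
        refine ⟨O.inv_mem ha, ?_⟩
        rw [← mul_inv_rev, ha', inv_one] }
  have hX : ∀ s ∈ T, X * s * X⁻¹ ∈ T := by
    rintro s ⟨hs, hs'⟩
    refine ⟨H.normal X H.X s hs, ?_⟩
    calc X * s * X⁻¹ * (X * s * X⁻¹) = X * (s * s) * X⁻¹ := by group
      _ = 1 := by rw [hs']; group
  rcases irr H T (fun s hs => hs.1) hX with h | h
  · exfalso
    have h2 : 2 ∣ Nat.card O := by rw [card_O H]; norm_num
    obtain ⟨x, hx⟩ := exists_prime_orderOf_dvd_card' 2 h2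
    have h1 : (x : Co1) ∈ T := by
      refine ⟨x.2, ?_⟩
      have := pow_orderOf_eq_one x
      rw [hx, pow_two] at this
      exact congrArg Subtype.val this
    rw [h, Subgroup.mem_bot] at h1
    have h3 : x = 1 := Subtype.ext h1
    rw [h3, orderOf_one] at hx
    norm_num at hx
  · intro s hs
    rw [← h] at hs
    exact hs.2

/-! ### The preimage in `Co0` -/

omit H in
theorem c_sq : signCo0 allOne * signCo0 allOne = 1 := signCo0_mul_self _

omit H in
theorem c_comm (g : Co0) : g * signCo0 allOne = signCo0 allOne * g :=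
  CoOneType.SignFacts.sign_allOne_comm g

omit H in
theorem pr_c : pr (signCo0 allOne) = 1 := CoFrameF.pr_eq_one.2 (Or.inr rfl)

omit H in
theorem card_comap (T : Subgroup Co1) : Nat.card (T.comap pr) = 2 * Nat.card T := by
  have h1 := (T.comap pr).card_mul_index
  have h2 := T.card_mul_index
  rw [Subgroup.index_comap_of_surjective T pr_surjective, Cfsg.Agent.S0397.result] at h1
  rw [CoFrameF.card_Co1] at h2
  have h3 : 0 < T.index := by
    rcases Nat.eq_zero_or_pos T.index with h | h
    · rw [h] at h2; norm_num at h2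
    · exact h
  have h4 : Nat.card (T.comap pr) * T.index = 2 * Nat.card T * T.index := by
    rw [h1, mul_assoc, h2]; norm_num
  exact Nat.eq_of_mul_eq_mul_right h3 h4

theorem card_hat : Nat.card (O.comap pr) = 2 ^ 12 := by
  rw [card_comap, card_O H]; norm_num

theorem hat_conj {g t : Co0} (hg : pr g ∈ K) (ht : t ∈ O.comap pr) : g * t * g⁻¹ ∈ O.comap pr := by
  show pr (g * t * g⁻¹) ∈ O
  rw [map_mul, map_mul, map_inv]
  exact H.normal _ hg _ ht

/-- the preimage is abelian -/
theorem hat_comm : ∀ s ∈ O.comap pr, ∀ t ∈ O.comap pr, s * t = t * s := by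
  let Z : Subgroup Co0 := O.comap pr ⊓ Subgroup.centralizer (O.comap pr : Set Co0)
  have hmem : ∀ s, s ∈ Z ↔ s ∈ O.comap pr ∧ ∀ t ∈ O.comap pr, t * s = s * t := fun s => by
    rw [Subgroup.mem_inf, Subgroup.mem_centralizer_iff]; rfl
  have hZX : ∀ s ∈ Z, x23 * s * x23⁻¹ ∈ Z := by
    intro s hs
    rw [hmem] at hs ⊢
    refine ⟨hat_conj H H.X hs.1, fun t ht => ?_⟩
    have h1 := hs.2 (x23⁻¹ * t * x23) (by
      have := hat_conj H (g := x23⁻¹) (by rw [map_inv]; exact K.inv_mem H.X) ht
      rwa [inv_inv] at this)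
    calc t * (x23 * s * x23⁻¹) = x23 * ((x23⁻¹ * t * x23) * s) * x23⁻¹ := by group
      _ = x23 * (s * (x23⁻¹ * t * x23)) * x23⁻¹ := by rw [h1]
      _ = x23 * s * x23⁻¹ * t := by group
  have hTO : Z.map pr ≤ O := by
    rintro _ ⟨s, hs, rfl⟩
    exact ((hmem s).1 hs).1
  have hTX : ∀ s ∈ Z.map pr, X * s * X⁻¹ ∈ Z.map pr := by
    rintro _ ⟨s, hs, rfl⟩
    refine ⟨x23 * s * x23⁻¹, hZX s hs, ?_⟩
    rw [map_mul, map_mul, map_inv]; rfl
  rcases irr H (Z.map pr) hTO hTX with h | h
  · -- the extraspecial case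
    exfalso
    have hker : ∀ t : Co0, pr t = 1 → t ∈ Z := by
      intro t ht
      rw [hmem]
      refine ⟨by show pr t ∈ O; rw [ht]; exact O.one_mem, fun s _ => ?_⟩
      rcases CoFrameF.pr_eq_one.1 ht with h1 | h1
      · rw [h1]; simp
      · rw [h1]; exact c_comm s
    have hZ : ∀ t, t ∈ Z ↔ pr t = 1 := by
      intro t
      refine ⟨fun ht => ?_, hker t⟩
      have h1 : pr t ∈ Z.map pr := ⟨t, ht, rfl⟩
      rw [h, Subgroup.mem_bot] at h1
      exact h1
    have hcen : ∀ t : O.comap pr, t ∈ Subgroup.center (O.comap pr) ↔ pr (t : Co0) = 1 := by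
      intro t
      rw [← hZ, hmem, Subgroup.mem_center_iff]
      constructor
      · intro h1
        exact ⟨t.2, fun s hs => congrArg Subtype.val (h1 ⟨s, hs⟩)⟩
      · rintro ⟨-, h1⟩ s
        exact Subtype.ext (h1 s s.2)
    have hc : ∀ a b : O.comap pr, ⁅a, b⁆ ∈ Subgroup.center (O.comap pr) := by
      intro a b
      rw [hcen]
      show pr (⁅(a : Co0), (b : Co0)⁆) = 1
      rw [map_commutatorElement, commutatorElement_eq_one_iff_mul_comm]
      exact comm H _ a.2 _ b.2
    have hcard : Nat.card (Subgroup.center (O.comap pr)) = 2 := by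
      have h1 : Nat.card (Subgroup.center (O.comap pr)) = Nat.card (Subgroup.center Co0) := by
        refine Nat.card_congr
          { toFun := fun t => ⟨(t : O.comap pr), ?_⟩
            invFun := fun t => ⟨⟨t, ?_⟩, ?_⟩
            left_inv := fun t => rfl
            right_inv := fun t => rfl }
        · have := (hcen t).1 t.2
          rw [mem_center_iff]
          exact CoFrameF.pr_eq_one.1 this
        · show pr (t : Co0) ∈ O
          rw [CoFrameF.pr_eq_one.2 ((mem_center_iff _).1 t.2)]
          exact O.one_mem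
        · rw [hcen]
          exact CoFrameF.pr_eq_one.2 ((mem_center_iff _).1 t.2)
      rw [h1, CoFrameF.card_center]
    have hd : Nat.card (commutator (O.comap pr)) ∣ 2 := by
      rw [← hcard]
      apply Subgroup.card_dvd_of_le
      rw [commutator_def, Subgroup.commutator_le]
      intro a _ b _
      exact hc a b
    have : Fact (Nat.Prime 2) := ⟨Nat.prime_two⟩
    obtain ⟨n, hn⟩ := Cfsg.Agent.Transfer.Extraspecial.exists_index_center_eq (p := 2) _ rfl hc hd
    have h2 := (Subgroup.center (O.comap pr)).card_mul_index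
    rw [hn, hcard, card_hat H, ← pow_succ'] at h2
    have h3 := Nat.pow_right_injective (le_refl 2) h2
    omega
  · intro s hs t ht
    have h1 : pr s ∈ Z.map pr := by rw [h]; exact hs
    obtain ⟨z, hz, hzs⟩ := h1
    have h2 := ((hmem z).1 hz).2 t ht
    rcases CoFrameF.pr_eq.1 hzs.symm with h3 | h3
    · rw [h3]; exact h2.symm
    · rw [h3]
      calc z * signCo0 allOne * t = z * (t * signCo0 allOne) := by rw [c_comm t]; group
        _ = t * z * signCo0 allOne := by rw [← mul_assoc, ← h2]
        _ = t * (z * signCo0 allOne) := by group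

/-- the preimage has exponent two -/
theorem hat_sq : ∀ s ∈ O.comap pr, s * s = 1 := by
  let W : Subgroup Co0 :=
    { carrier := {s | s ∈ O.comap pr ∧ s * s = 1}
      one_mem' := ⟨(O.comap pr).one_mem, one_mul 1⟩
      mul_mem' := by
        rintro a b ⟨ha, ha'⟩ ⟨hb, hb'⟩
        refine ⟨(O.comap pr).mul_mem ha hb, ?_⟩
        have h1 := hat_comm H b hb a ha
        calc a * b * (a * b) = a * (b * a) * b := by group
          _ = (a * a) * (b * b) := by rw [h1]; group
          _ = 1 := by rw [ha', hb', one_mul]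
      inv_mem' := by
        rintro a ⟨ha, ha'⟩
        refine ⟨(O.comap pr).inv_mem ha, ?_⟩
        rw [← mul_inv_rev, ha', inv_one] }
  have hTX : ∀ s ∈ W.map pr, X * s * X⁻¹ ∈ W.map pr := by
    rintro _ ⟨s, ⟨hs, hs'⟩, rfl⟩
    refine ⟨x23 * s * x23⁻¹, ⟨hat_conj H H.X hs, ?_⟩, ?_⟩
    · calc x23 * s * x23⁻¹ * (x23 * s * x23⁻¹) = x23 * (s * s) * x23⁻¹ := by group
        _ = 1 := by rw [hs']; group
    · rw [map_mul, map_mul, map_inv]; rfl
  have hTO : W.map pr ≤ O := by
    rintro _ ⟨s, hs, rfl⟩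
    exact hs.1
  rcases irr H (W.map pr) hTO hTX with h | h
  · exfalso
    have key : ∀ s ∈ O.comap pr, pr s ≠ 1 → s * s = signCo0 allOne := by
      intro s hs hne
      have h1 : pr (s * s) = 1 := by rw [map_mul]; exact sq H _ hs
      rcases CoFrameF.pr_eq_one.1 h1 with h2 | h2
      · exfalso
        have h3 : pr s ∈ W.map pr := ⟨s, ⟨hs, h2⟩, rfl⟩
        rw [h, Subgroup.mem_bot] at h3
        exact hne h3
      · exact h2
    -- two distinct nontrivial elements of `O`
    have hc := card_O H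
    have h2 : ∃ a b : O, a ≠ 1 ∧ b ≠ 1 ∧ a ≠ b := by
      by_contra hcon
      push Not at hcon
      have : Nat.card O ≤ 2 := by
        classical
        have := Fintype.ofFinite O
        by_cases h1 : ∀ a : O, a = 1
        · have : Subsingleton O := ⟨fun a b => by rw [h1 a, h1 b]⟩
          rw [Nat.card_of_subsingleton (1 : O)]; norm_num
        · push Not at h1
          obtain ⟨b, hb⟩ := h1
          rw [Nat.card_eq_fintype_card, ← Finset.card_univ]
          have h3 : (Finset.univ : Finset O) ⊆ {1, b} := by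
            intro a _
            by_cases ha : a = 1
            · simp [ha]
            · simp [hcon a b ha hb]
          exact (Finset.card_le_card h3).trans Finset.card_le_two
      omega
    obtain ⟨a, b, ha, hb, hab⟩ := h2
    obtain ⟨s, hs⟩ := pr_surjective (a : Co1)
    obtain ⟨t, ht⟩ := pr_surjective (b : Co1)
    have hs1 : s ∈ O.comap pr := by show pr s ∈ O; rw [hs]; exact a.2
    have ht1 : t ∈ O.comap pr := by show pr t ∈ O; rw [ht]; exact b.2
    have e1 := key s hs1 (by rw [hs]; exact fun h => ha (Subtype.ext h))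
    have e2 := key t ht1 (by rw [ht]; exact fun h => hb (Subtype.ext h))
    have e3 : (s * t) * (s * t) = 1 := by
      calc (s * t) * (s * t) = s * (t * s) * t := by group
        _ = (s * s) * (t * t) := by rw [hat_comm H t ht1 s hs1]; group
        _ = 1 := by rw [e1, e2, c_sq]
    have h3 : pr (s * t) ∈ W.map pr := ⟨s * t, ⟨(O.comap pr).mul_mem hs1 ht1, e3⟩, rfl⟩
    rw [h, Subgroup.mem_bot, map_mul, hs, ht] at h3
    apply hab
    apply Subtype.ext
    have h4 := sq H b b.2
    calc (a : Co1) = a * (b * b) := by rw [h4, mul_one]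
      _ = (a * b) * b := by group
      _ = b := by rw [h3, one_mul]
  · intro s hs
    have h1 : pr s ∈ W.map pr := by rw [h]; exact hs
    obtain ⟨z, hz, hzs⟩ := h1
    rcases CoFrameF.pr_eq.1 hzs.symm with h3 | h3
    · rw [h3]; exact hz.2
    · rw [h3]
      calc z * signCo0 allOne * (z * signCo0 allOne) = z * (signCo0 allOne * z) * signCo0 allOne := by group
        _ = (z * z) * (signCo0 allOne * signCo0 allOne) := by rw [← c_comm z]; group
        _ = 1 := by rw [hz.2, c_sq, one_mul]

end Cfsg.Agent.H861.RCoB
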