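import Cfsg.Agent.H861.RCoB
import Cfsg.Agent.SigZeroCo2.Lin
import Cfsg.Agent.CoOneType.InvMain

/-!
# The preimage of `O` in `Co0` contains a dodecad element, by traces
-/

set_option autoImplicit false

open Cfsg

namespace Cfsg.Agent.H861.RCoC

open Cfsg.Agent.MonsterU
open Cfsg.Agent.MonsterU.CoFrameL2
open Cfsg.Agent.MonsterU.CoFrameIrr
open Cfsg.Agent.SporadicA.Co0Mono hiding smul_add smul_sub smul_neg smul_zero
open Cfsg.Agent.SporadicA.Co1Simple
open Cfsg.Agent.CoOneType.CoOneE (pr pr_surjective E mem_E mem_center_iff card_E)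
open Cfsg.Agent.CoOneType.SignFacts
open Cfsg.Agent.SporadicStructure.Co0Base (e8 e8_coe)
open Cfsg.Agent.Co2Type.Mono (tr8 tr8_conj)
open Cfsg.Agent.SigZeroCo2.Lin (rep trace_rep Sp tr8_one)
open Cfsg.Spor (Co1)
open Cfsg.Agent.H861.RCoA
open Cfsg.Agent.H861.RCoB

theorem tr8_sign (c : golayCode) : tr8 (signCo0 c) = 8 * (24 - 2 * (wt c : ℤ)) := by
  unfold tr8
  have h1 : ∀ i : GolayPt, ((signCo0 c • e8 i : leechLattice) : GolayPt → ℤ) i =
      8 - 16 * (if i ∈ sup c then (1 : ℤ) else 0) := by
    intro i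
    rw [CoFrameAct.sign_coe, e8_coe, Pi.single_eq_same]
    split_ifs <;> norm_num
  rw [Finset.sum_congr rfl fun i _ => h1 i, Finset.sum_sub_distrib, ← Finset.mul_sum,
    Finset.sum_boole, Finset.sum_const, SporadicStructure.MinShapes.card_pt]
  have h2 : (Finset.univ.filter fun i => i ∈ sup c) = sup c := by
    ext i; simp
  rw [h2]
  show _ = 8 * (24 - 2 * ((sup c).card : ℤ))
  simp only [nsmul_eq_mul]
  push_cast
  ring

theorem eq_of_wt_zero {c : golayCode} (h : wt c = 0) : signCo0 c = 1 := by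
  rw [CoOneType.CoOneE.wt_eq_zero c h, signCo0_zero]

theorem eq_of_wt_all {c : golayCode} (h : wt c = 24) : signCo0 c = signCo0 allOne := by
  have h1 := wt_add_allOne c
  have h2 : c + allOne = 0 := CoOneType.CoOneE.wt_eq_zero _ (by omega)
  have h3 : c = allOne := by
    have := CoOneType.CoOneE.add_allOne_add_allOne c
    rw [h2, zero_add] at this
    exact this.symm
  rw [h3]

variable {K O : Subgroup Co1} (H : Hyp K O)

include H

/-- **A dodecad element in the preimage of `O`.** -/
theorem exists_dodecad : ∃ t ∈ O.comap pr, ∃ (g : Co0) (d : golayCode), wt d = 12 ∧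
    g * t * g⁻¹ = signCo0 d := by
  classical
  by_contra hcon
  push Not at hcon
  have key : ∀ t ∈ O.comap pr, t ≠ 1 → t ≠ signCo0 allOne → tr8 t ^ 2 = 64 ^ 2 := by
    intro t ht h1 hc
    obtain ⟨g, c, hg⟩ := CoOneType.InvMain.conj_sign_of_sq_one t (hat_sq H t ht)
    have ht' : tr8 t = tr8 (signCo0 c) := by rw [← hg, tr8_conj]
    have hback : t = g⁻¹ * signCo0 c * g := by rw [← hg]; group
    rw [ht', tr8_sign]
    rcases wt_cases c with h | h | h | h | h
    · exfalso; apply h1
      rw [hback, eq_of_wt_zero h]; group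
    · rw [h]; norm_num
    · exact absurd hg (hcon t ht g c h)
    · rw [h]; norm_num
    · exfalso; apply hc
      rw [hback, eq_of_wt_all h, mul_assoc, ← c_comm g]; group
  have hfin : Finite (O.comap pr) := Nat.finite_of_card_ne_zero (by rw [card_hat H]; norm_num)
  have : Fintype (O.comap pr) := Fintype.ofFinite _
  have hinv : Invertible (Nat.card (O.comap pr) : ℚ) := invertibleOfNonzero (by
    rw [card_hat H]; norm_num)
  let ρ : Representation ℚ (O.comap pr) Sp := rep.comp (O.comap pr).subtype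
  have h1 := Representation.card_inv_mul_sum_char_eq_finrank (ρ.tprod ρ)
  rw [Representation.char_tensor] at h1
  have h2 : ∀ t : O.comap pr, (ρ.character * ρ.character) t = (tr8 (t : Co0) : ℚ) ^ 2 / 64 := by
    intro t
    have e : ρ.character t = (tr8 (t : Co0) : ℚ) / 8 := trace_rep (t : Co0)
    rw [Pi.mul_apply, e]
    ring
  rw [Finset.sum_congr rfl fun t _ => h2 t, card_hat H] at h1
  -- the sum
  let one : O.comap pr := 1
  let neg : O.comap pr := ⟨signCo0 allOne, by
    show pr (signCo0 allOne) ∈ O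
    rw [pr_c]; exact O.one_mem⟩
  have hne : neg ≠ one := fun h => CoOneType.CoOneE.allOne_ne (congrArg Subtype.val h)
  have h3 : ∑ t : O.comap pr, (tr8 (t : Co0) : ℚ) ^ 2 / 64 = 263168 := by
    rw [← Finset.add_sum_erase _ _ (Finset.mem_univ one),
      ← Finset.add_sum_erase _ _ (Finset.mem_erase.2 ⟨hne, Finset.mem_univ neg⟩)]
    have h4 : ∀ t ∈ (Finset.univ.erase one).erase neg, (tr8 ((t : O.comap pr) : Co0) : ℚ) ^ 2 / 64 = 64 := by
      intro t ht
      rw [Finset.mem_erase, Finset.mem_erase] at ht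
      have h5 := key t t.2 (fun h => ht.2.1 (Subtype.ext h)) (fun h => ht.1 (Subtype.ext h))
      have h6 : (tr8 (t : Co0) : ℚ) ^ 2 = 64 ^ 2 := by exact_mod_cast h5
      rw [h6]; norm_num
    rw [Finset.sum_congr rfl h4, Finset.sum_const, Finset.card_erase_of_mem
      (Finset.mem_erase.2 ⟨hne, Finset.mem_univ neg⟩), Finset.card_erase_of_mem (Finset.mem_univ one),
      Finset.card_univ, ← Nat.card_eq_fintype_card, card_hat H]
    have e1 : tr8 ((one : O.comap pr) : Co0) = 192 := tr8_one
    have e2 : tr8 ((neg : O.comap pr) : Co0) = -192 := by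
      show tr8 (signCo0 allOne) = _
      have h7 := wt_add_allOne allOne
      rw [CoOneType.CoOneE.allOne_add_self] at h7
      have h8 : wt 0 = 0 := by
        unfold wt
        rw [CoOneType.CoOneE.sup_zero, Finset.card_empty]
      rw [tr8_sign]
      have h9 : wt allOne = 24 := by omega
      rw [h9]; norm_num
    rw [e1, e2]
    norm_num
  rw [h3] at h1
  have h4 : (263168 : ℚ) = 4096 * (Module.finrank ℚ (ρ.tprod ρ).invariants : ℚ) := by
    rw [← h1]; norm_num
  have h5 : 263168 = 4096 * Module.finrank ℚ (ρ.tprod ρ).invariants := by exact_mod_cast h4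
  omega

end Cfsg.Agent.H861.RCoC
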