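import Cfsg.Agent.H861.RCoC
import Cfsg.Agent.H861.RUtil
import Cfsg.Agent.S0383
import Cfsg.Agent.S0361

/-!
# A subgroup `2^11.M24` of `Co1` is conjugate to `F`
-/

set_option autoImplicit false

open Cfsg

namespace Cfsg.Agent.H861.RCoD

open Cfsg.Agent.MonsterU
open Cfsg.Agent.MonsterU.CoFrameL2 (f0 f0_ne mem_F_iff mem_W1 mem_W1_of_E smul_f0)
open Cfsg.Agent.MonsterU.CoFrameIrr (X)
open Cfsg.Agent.MonsterU.CoFrameF (F toM24 toM24_eq toM24_eq_one_iff comap_F card_F exists_of_mem_F E_le_F)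
open Cfsg.Agent.SporadicA.Co0Mono hiding smul_add smul_sub smul_neg smul_zero
open Cfsg.Agent.SporadicA.Co1Simple
open Cfsg.Agent.CoOneType.CoOneE (pr pr_surjective E mem_E mem_center_iff card_E sup_wordPerm sup_mem_dodecads
  sup_inj wordOf sup_wordOf wordOf_sup)
open Cfsg.Agent.CoOneType.SignFacts
open Cfsg.Spor (Co1)
open Cfsg.Agent.H861.RCoB (card_comap c_comm)
open Cfsg.Agent.H861.RUtil
open scoped Pointwise

/-- `|C(ε_d)| · 2576 ≤ |N|` -/
theorem card_C (d : golayCode) (hd : wt d = 12) :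
    Nat.card (Subgroup.centralizer ({signCo0 d} : Set Co0)) * 2576 ≤ 2 ^ 12 * 244823040 := by
  have hle : Subgroup.centralizer ({signCo0 d} : Set Co0) ≤ N := by
    intro g hg
    exact mem_N_of_conj_dodecad d d hd hd g (Subgroup.mem_centralizer_singleton_iff.1 hg)
  have hN : Nat.card N = 2 ^ 12 * 244823040 := by
    rw [← comap_F, card_comap, card_F]; norm_num
  have h1 := card_mul_conj N (signCo0 d)
  rw [inf_eq_left.2 hle] at h1
  have h2 : 2576 ≤ Nat.card {x : Co0 // ∃ g ∈ N, g * signCo0 d * g⁻¹ = x} := by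
    rw [← Cfsg.Agent.S0361.result, ← Nat.card_coe_set_eq]
    refine Nat.card_le_card_of_injective
      (fun e : dodecads => (⟨signCo0 (wordOf (e : Finset GolayPt)), ?_⟩ :
        {x : Co0 // ∃ g ∈ N, g * signCo0 d * g⁻¹ = x})) ?_
    · obtain ⟨g, hg⟩ := CoOneType.InvMain.exists_perm_dodecad (c := d) (d := wordOf (e : Finset GolayPt))
        ((sup_mem_dodecads d).2 hd) (by
          have := sup_wordOf e.2.1
          show sup _ ∈ dodecads
          rw [this]; exact e.2)
      exact ⟨permCo0 g, perm_mem_N g, by rw [perm_mul_sign_mul_inv, hg]⟩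
    · intro e e' h
      have h3 : signCo0 (wordOf (e : Finset GolayPt)) = signCo0 (wordOf (e' : Finset GolayPt)) :=
        congrArg Subtype.val h
      have h4 := CoFrameF.sign_inj h3
      apply Subtype.ext
      rw [← sup_wordOf e.2.1, ← sup_wordOf e'.2.1, h4]
  calc _ ≤ Nat.card (Subgroup.centralizer ({signCo0 d} : Set Co0)) *
        Nat.card {x : Co0 // ∃ g ∈ N, g * signCo0 d * g⁻¹ = x} := Nat.mul_le_mul_left _ h2
    _ = _ := by rw [h1, hN]

variable {K O : Subgroup Co1}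

theorem centralizer_le (hn : ∀ k ∈ K, ∀ s ∈ O, k * s * k⁻¹ ∈ O) (cO : Nat.card O = 2 ^ 11)
    (cK : Nat.card K = 2 ^ 11 * 244823040) {d : golayCode} (hd : wt d = 12) (hdO : pr (signCo0 d) ∈ O) :
    Subgroup.centralizer ({signCo0 d} : Set Co0) ≤ K.comap pr := by
  set C := Subgroup.centralizer ({signCo0 d} : Set Co0) with hC
  set D := K.comap pr with hD
  have hcO : Nat.card (O.comap pr) = 2 ^ 12 := by rw [card_comap, cO]; norm_num
  have hfin : Finite (O.comap pr) := Nat.finite_of_card_ne_zero (by rw [hcO]; norm_num)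
  have h1 := card_mul_conj D (signCo0 d)
  have h2 : Nat.card {x : Co0 // ∃ g ∈ D, g * signCo0 d * g⁻¹ = x} ≤ 2 ^ 12 := by
    rw [← hcO]
    refine Nat.card_le_card_of_injective
      (fun x : {x : Co0 // ∃ g ∈ D, g * signCo0 d * g⁻¹ = x} => (⟨(x : Co0), ?_⟩ : O.comap pr)) ?_
    · obtain ⟨g, hg, hx⟩ := x.2
      rw [← hx]
      show pr (g * signCo0 d * g⁻¹) ∈ O
      rw [map_mul, map_mul, map_inv]
      exact hn _ hg _ hdO
    · intro x y h
      exact Subtype.ext (congrArg (fun t : O.comap pr => (t : Co0)) h)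
  have h3 := card_C d hd
  have h4 := card_inf_mul D C
  have h5 : Nat.card D = 2 ^ 12 * 244823040 := by rw [hD, card_comap, cK]; norm_num
  rw [inf_comm] at h4
  rw [← hC] at h1 h3
  rw [h5] at h1
  rw [← h4] at h3
  set a := Nat.card ↥(C ⊓ D) with ha
  set b := Nat.card {x : Co0 // ∃ g ∈ D, g * signCo0 d * g⁻¹ = x} with hb
  set r := D.relIndex C with hr
  have h6 : r ≤ 1 := by
    by_contra hlt
    have h7 : 2 ≤ r := by omega
    have ha0 : 0 < a := by
      rcases Nat.eq_zero_or_pos a with h | h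
      · rw [h, zero_mul] at h1; norm_num at h1
      · exact h
    have h8 : a * 2 * 2576 ≤ a * 2 ^ 12 := by
      calc a * 2 * 2576 ≤ a * r * 2576 := Nat.mul_le_mul_right _ (Nat.mul_le_mul_left _ h7)
        _ ≤ 2 ^ 12 * 244823040 := h3
        _ = a * b := h1.symm
        _ ≤ a * 2 ^ 12 := Nat.mul_le_mul_left _ h2
    have h9 : 2 * 2576 ≤ 2 ^ 12 := Nat.le_of_mul_le_mul_left (by rw [← mul_assoc]; exact h8) ha0
    norm_num at h9
  have h10 : r ≠ 0 := by
    intro h
    rw [hr, Subgroup.relIndex] at h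
    exact Subgroup.index_ne_zero_of_finite h
  have h11 : r = 1 := by omega
  exact Subgroup.relIndex_eq_one.1 h11

theorem not_two_stab {e : Finset GolayPt} (he : e ∈ dodecads)
    (h2 : IsPGroup 2 (MulAction.stabilizer M24 e)) : False := by
  have h1 : (MulAction.stabilizer M24 e).index = 2576 := by
    rw [MulAction.index_stabilizer, ← Cfsg.Agent.S0361.result]
    congr 1
    ext f
    rw [MulAction.mem_orbit_iff]
    constructor
    · rintro ⟨g, rfl⟩
      exact SporadicStructure.DodecadM12.smul_mem_dodecads g.2 he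
    · intro hf
      exact Cfsg.Agent.S0368.result e f he hf
  have h3 := (MulAction.stabilizer M24 e).card_mul_index
  obtain ⟨n, hn⟩ := IsPGroup.iff_card.1 h2
  rw [h1, hn, Cfsg.Agent.S0364.result] at h3
  have h4 : 11 ^ 2 ∣ 2 ^ n * 2576 * 121 := ⟨2 ^ n * 2576, by ring⟩
  have h5 : 2 ^ n = 95040 := by
    apply Nat.eq_of_mul_eq_mul_right (by norm_num : 0 < 2576)
    rw [h3]
  have h6 : 11 ∣ 2 ^ n := by rw [h5]; norm_num
  have h7 := (by norm_num : Nat.Prime 11).dvd_of_dvd_pow h6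
  norm_num at h7

/-- `O = E` and `K = F` as soon as `O` contains a dodecad element of `E`. -/
theorem eq_F (hn : ∀ k ∈ K, ∀ s ∈ O, k * s * k⁻¹ ∈ O) (cO : Nat.card O = 2 ^ 11)
    (cK : Nat.card K = 2 ^ 11 * 244823040) (hcomm : ∀ s ∈ O.comap pr, ∀ t ∈ O.comap pr, s * t = t * s)
    {d : golayCode} (hd : wt d = 12) (hdO : pr (signCo0 d) ∈ O) : O = E ∧ K = F := by
  have hC := centralizer_le hn cO cK hd hdO
  have hO2 : IsPGroup 2 O := IsPGroup.of_card cO
  have hrep : ∀ s ∈ O, ∃ (c : golayCode) (σ : M24), s = pr (signCo0 c * permCo0 σ) ∧ σ • sup d = sup d := by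
    intro s hs
    obtain ⟨g, rfl⟩ := pr_surjective s
    have h1 : g * signCo0 d = signCo0 d * g := hcomm g hs _ hdO
    have h2 : g ∈ N := mem_N_of_conj_dodecad d d hd hd g h1
    obtain ⟨c, σ, rfl⟩ := exists_sign_perm h2
    refine ⟨c, σ, rfl, ?_⟩
    rw [← sup_wordPerm]
    congr 1
    have h3 := perm_mul_sign_mul_inv σ d
    have h4 : signCo0 c * permCo0 σ * signCo0 d * (signCo0 c * permCo0 σ)⁻¹ = signCo0 d := by
      rw [h1, mul_inv_cancel_right]
    have h5 : signCo0 c * permCo0 σ * signCo0 d * (signCo0 c * permCo0 σ)⁻¹ =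
        signCo0 c * (permCo0 σ * signCo0 d * (permCo0 σ)⁻¹) * (signCo0 c)⁻¹ := by group
    rw [h5, h3, ← signCo0_add] at h4
    have h6 : signCo0 (c + wordPerm σ d) = signCo0 (d + c) := by
      rw [mul_inv_eq_iff_eq_mul, ← signCo0_add] at h4
      exact h4
    have h7 := CoFrameF.sign_inj h6
    rw [add_comm] at h7
    exact add_right_cancel h7
  have hOF : O ≤ F := by
    intro s hs
    obtain ⟨c, σ, rfl, -⟩ := hrep s hs
    exact CoFrameF.sp_mem_F c σ
  -- the image in `M24`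
  have hsd : sup d ∈ dodecads := (sup_mem_dodecads d).2 hd
  let S := MulAction.stabilizer M24 (sup d)
  let T : Subgroup M24 := (O.subgroupOf F).map toM24
  have hTp : IsPGroup 2 T := (hO2.comap_subtype (K := F)).map toM24
  have hTS : T ≤ S := by
    rintro _ ⟨s, hs, rfl⟩
    obtain ⟨c, σ, h1, h2⟩ := hrep s hs
    rw [toM24_eq h1]
    exact h2
  have hTn : (T.subgroupOf S).Normal := by
    constructor
    rintro ⟨x, hxS⟩ hx ⟨τ, hτ⟩
    obtain ⟨s, hs, hsx⟩ := hx
    have hsx' : toM24 s = x := hsx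
    have h1 : pr (permCo0 τ) ∈ K := by
      apply hC
      rw [Subgroup.mem_centralizer_singleton_iff]
      have h2 := perm_mul_sign_mul_inv τ d
      have h3 : wordPerm τ d = d := sup_inj (by rw [sup_wordPerm]; exact hτ)
      rw [h3, mul_inv_eq_iff_eq_mul] at h2
      exact h2
    obtain ⟨c, σ, hcs⟩ := exists_of_mem_F s.2
    have hF : pr (permCo0 τ) ∈ F := by
      have := CoFrameF.sp_mem_F 0 τ
      rwa [signCo0_zero, one_mul] at this
    have hF' : pr (permCo0 τ) = pr (signCo0 0 * permCo0 τ) := by rw [signCo0_zero, one_mul]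
    refine ⟨⟨pr (permCo0 τ), hF⟩ * s * ⟨pr (permCo0 τ), hF⟩⁻¹, ?_, ?_⟩
    · exact hn _ h1 _ hs
    · rw [map_mul, map_mul, map_inv, toM24_eq (x := ⟨pr (permCo0 τ), hF⟩) hF', hsx']
      rfl
  have hT : T = ⊥ := by
    have hsimp := Cfsg.Agent.S0383.result (sup d) hsd
    rcases hsimp.eq_bot_or_eq_top_of_normal (T.subgroupOf S) hTn with h | h
    · rw [Subgroup.subgroupOf_eq_bot, disjoint_iff, inf_eq_left.2 hTS] at h
      exact h
    · exfalso
      rw [Subgroup.subgroupOf_eq_top] at h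
      exact not_two_stab hsd (hTp.to_le h)
  have hOE : O ≤ E := by
    intro s hs
    have h1 : toM24 ⟨s, hOF hs⟩ ∈ T := ⟨⟨s, hOF hs⟩, hs, rfl⟩
    rw [hT, Subgroup.mem_bot] at h1
    exact (toM24_eq_one_iff _).1 h1
  have hOE' : O = E := by
    have hfin : Finite E := Nat.finite_of_card_ne_zero (by rw [card_E]; norm_num)
    exact Subgroup.eq_of_le_of_card_ge hOE (by rw [card_E, cO]; norm_num)
  refine ⟨hOE', ?_⟩
  have hKF : K ≤ F := by
    intro k hk
    have h1 : k • f0 ∈ CoFrameL2.W1 := by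
      apply mem_W1_of_E
      intro s hs
      have h2 := hn k⁻¹ (K.inv_mem hk) s (by rw [hOE']; exact hs)
      rw [hOE', inv_inv] at h2
      have h3 := smul_f0 (E_le_F h2)
      calc s • k • f0 = k • ((k⁻¹ * s * k) • f0) := by rw [smul_smul, smul_smul]; congr 1; group
        _ = k • f0 := by rw [h3]
    rcases (mem_W1 _).1 h1 with h2 | h2
    · exfalso
      have : k⁻¹ • k • f0 = 0 := by rw [h2, smul_zero]
      rw [inv_smul_smul] at this
      exact f0_ne this
    · exact (mem_F_iff k).2 h2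
  have hfin : Finite F := Nat.finite_of_card_ne_zero (by rw [card_F]; norm_num)
  exact Subgroup.eq_of_le_of_card_ge hKF (by rw [card_F, cK]; norm_num)

/-- **Theorem A.** -/
theorem eq_F_of_hyp (H : RCoB.Hyp K O) : O = E ∧ K = F := by
  obtain ⟨t, ht, g, d, hd, hg⟩ := RCoC.exists_dodecad H
  have cO := RCoB.card_O H
  have cK : Nat.card K = 2 ^ 11 * 244823040 := by rw [H.card, cO, Cfsg.Agent.S0364.result]
  let φ : Co1 ≃* Co1 := MulAut.conj (pr g)
  have hφ : ∀ x, φ x = pr g * x * (pr g)⁻¹ := fun x => rfl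
  have hmem : ∀ (S : Subgroup Co1) (x : Co1), x ∈ S.map φ.toMonoidHom ↔ (pr g)⁻¹ * x * pr g ∈ S := by
    intro S x
    constructor
    · rintro ⟨y, hy, rfl⟩
      have e : (pr g)⁻¹ * (pr g * y * (pr g)⁻¹) * pr g = y := by group
      show (pr g)⁻¹ * (pr g * y * (pr g)⁻¹) * pr g ∈ S
      rw [e]; exact hy
    · intro h
      refine ⟨_, h, ?_⟩
      show pr g * ((pr g)⁻¹ * x * pr g) * (pr g)⁻¹ = x
      group
  have hcard : ∀ S : Subgroup Co1, Nat.card (S.map φ.toMonoidHom) = Nat.card S := fun S =>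
    Subgroup.card_map_of_injective φ.injective
  obtain ⟨h1, h2⟩ := eq_F (K := K.map φ.toMonoidHom) (O := O.map φ.toMonoidHom)
    (by
      intro k hk s hs
      rw [hmem] at hk hs ⊢
      have := H.normal _ hk _ hs
      have e : (pr g)⁻¹ * (k * s * k⁻¹) * pr g =
        (pr g)⁻¹ * k * pr g * ((pr g)⁻¹ * s * pr g) * ((pr g)⁻¹ * k * pr g)⁻¹ := by group
      rw [e]; exact this)
    (by rw [hcard, cO]) (by rw [hcard, cK])
    (by
      intro a ha b hb
      have ha' : g⁻¹ * a * g ∈ O.comap pr := by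
        show pr (g⁻¹ * a * g) ∈ O
        rw [map_mul, map_mul, map_inv]; exact (hmem O _).1 ha
      have hb' : g⁻¹ * b * g ∈ O.comap pr := by
        show pr (g⁻¹ * b * g) ∈ O
        rw [map_mul, map_mul, map_inv]; exact (hmem O _).1 hb
      have h3 := RCoB.hat_comm H _ ha' _ hb'
      calc a * b = g * ((g⁻¹ * a * g) * (g⁻¹ * b * g)) * g⁻¹ := by group
        _ = g * ((g⁻¹ * b * g) * (g⁻¹ * a * g)) * g⁻¹ := by rw [h3]
        _ = b * a := by group)
    hd
    (by
      rw [hmem, ← hg, map_mul, map_mul, map_inv]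
      have e : (pr g)⁻¹ * (pr g * pr t * (pr g)⁻¹) * pr g = pr t := by group
      rw [e]; exact ht)
  -- `g ∈ N`
  have hgN : g⁻¹ ∈ N := by
    apply mem_N_of_conj
    rw [inv_inv]
    have h3 : pr (g * x23 * g⁻¹) ∈ F := by
      rw [← h2, hmem, map_mul, map_mul, map_inv]
      have e : (pr g)⁻¹ * (pr g * pr x23 * (pr g)⁻¹) * pr g = pr x23 := by group
      rw [e]; exact H.X
    exact CoFrameF.pr_mem_F.1 h3
  have hgF : pr g ∈ F := CoFrameF.pr_mem_F.2 (by
    have := N.inv_mem hgN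
    rwa [inv_inv] at this)
  constructor
  · ext x
    constructor
    · intro hx
      have h3 : pr g * x * (pr g)⁻¹ ∈ O.map φ.toMonoidHom := ⟨x, hx, rfl⟩
      rw [h1] at h3
      have h4 := CoFrameF.conj_mem_E (F.inv_mem hgF) h3
      have e : (pr g)⁻¹ * (pr g * x * (pr g)⁻¹) * (pr g)⁻¹⁻¹ = x := by group
      rwa [e] at h4
    · intro hx
      have h3 := CoFrameF.conj_mem_E hgF hx
      rw [← h1, hmem] at h3
      have e : (pr g)⁻¹ * (pr g * x * (pr g)⁻¹) * pr g = x := by group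
      rwa [e] at h3
  · ext x
    constructor
    · intro hx
      have h3 : pr g * x * (pr g)⁻¹ ∈ K.map φ.toMonoidHom := ⟨x, hx, rfl⟩
      rw [h2] at h3
      have h4 := F.mul_mem (F.mul_mem (F.inv_mem hgF) h3) hgF
      have e : (pr g)⁻¹ * (pr g * x * (pr g)⁻¹) * pr g = x := by group
      rwa [e] at h4
    · intro hx
      have h3 := F.mul_mem (F.mul_mem hgF hx) (F.inv_mem hgF)
      rw [← h2, hmem] at h3
      have e : (pr g)⁻¹ * (pr g * x * (pr g)⁻¹) * pr g = x := by group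
      rwa [e] at h3

end Cfsg.Agent.H861.RCoD
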