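import Cfsg.Agent.MonsterU.AmalGen
import Cfsg.Agent.H861.RChart
import Cfsg.Agent.H861.RSide

/-!
# The subgroup `E` of a relative chart
-/

set_option autoImplicit false

open Cfsg

namespace Cfsg.Agent.H861.RGen

open Cfsg.Agent.SporadicA.Co0Mono hiding smul_add smul_sub smul_neg smul_zero
open Cfsg.Agent.SporadicStructure.Co0Base (e8 e8_coe)
open Cfsg.Agent.SporadicA
open Cfsg.Agent.SporadicA.Co1Simple
open Cfsg.Agent.CoOneType.CoOneE (pr)
open Cfsg.Agent.MonsterU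
open Cfsg.Agent.MonsterU.Lam2 (L2 cl cl_surjective bf qf bf_add_left bf_add_right bf_cl_eq_zero
  bf_comm bf_zero_left bf_zero_right bf_self add_self neg_eq cl_two)
open Cfsg.Agent.MonsterU.CoFrame
open Cfsg.Agent.MonsterU.CoFrameAct
open Cfsg.Agent.MonsterU.CoFrameL2
open Cfsg.Agent.MonsterU.CoFrameIrr
open Cfsg.Agent.MonsterU.AmalPin (qr qrProd)
open Cfsg.Agent.MonsterU.AmalSide (four)
open Cfsg.Agent.MonsterU.AmalGen (bf_W12 mem_W12_of_bf gen_W12 gen_W23 sum_X_W12 sum_X_W23)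
open Cfsg.Agent.H861.RSide (cent2 mem_cent2)
open Cfsg.Agent.H861.RCh
open Cfsg.Spor (Co1)

/-! ### The chart -/

variable {G : Type*} [Group G] {C Q : Subgroup G} {z : G} {eta : G → L2} {pi : C →* Co1}

section

variable (h : Chart C Q z eta pi)
include h

/-- The inverse image in `Q` of a subgroup of `Λ/2Λ`. -/
def pre (W : AddSubgroup L2) : Subgroup G where
  carrier := {q | q ∈ Q ∧ eta q ∈ W}
  one_mem' := ⟨Q.one_mem, by rw [h.eta_one]; exact W.zero_mem⟩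
  mul_mem' := by
    rintro a b ⟨ha, ha'⟩ ⟨hb, hb'⟩
    exact ⟨Q.mul_mem ha hb, by rw [h.eta_mul a ha b hb]; exact W.add_mem ha' hb'⟩
  inv_mem' := by
    rintro a ⟨ha, ha'⟩
    exact ⟨Q.inv_mem ha, by rw [h.eta_inv ha]; exact ha'⟩

theorem mem_pre {W : AddSubgroup L2} {q : G} : q ∈ pre h W ↔ q ∈ Q ∧ eta q ∈ W := Iff.rfl

theorem pre_mono {W W' : AddSubgroup L2} (hW : W ≤ W') : pre h W ≤ pre h W' :=
  fun _ hq => ⟨hq.1, hW hq.2⟩

theorem pre_le {W : AddSubgroup L2} : pre h W ≤ Q := fun _ hq => hq.1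

theorem z_mem_pre (W : AddSubgroup L2) : z ∈ pre h W :=
  ⟨h.large.z_mem, by rw [h.eta_z]; exact W.zero_mem⟩

theorem pre_conj {W : AddSubgroup L2} (c : C)
    (hW : ∀ x ∈ W, pi c • x ∈ W) {q : G} (hq : q ∈ pre h W) :
    (c : G) * q * (c : G)⁻¹ ∈ pre h W := by
  refine ⟨?_, ?_⟩
  · exact h.large.conj_mem c c.2 q hq.1
  · rw [h.eta_conj c q hq.1]
    exact hW _ hq.2

theorem eta_pow_conj (c : C) {q : G} (hq : q ∈ Q) (n : ℕ) :
    (c : G) ^ n * q * ((c : G) ^ n)⁻¹ ∈ Q ∧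
      eta ((c : G) ^ n * q * ((c : G) ^ n)⁻¹) = pi c ^ n • eta q := by
  have h1 := h.eta_conj (c ^ n) q hq
  rw [map_pow] at h1
  exact ⟨h.large.conj_mem _ (c ^ n).2 q hq, h1⟩

/-- Generation lifts. -/
theorem closure_pre {W W' : AddSubgroup L2} (c : C) {a : G}
    (ha : a ∈ Q)
    (hgen : W' ≤ AddSubgroup.closure ((Set.range fun n : ℕ => pi c ^ n • eta a) ∪ (W : Set L2))) :
    ∀ q ∈ pre h W', q ∈ Subgroup.closure
      ((Set.range fun n : ℕ => (c : G) ^ n * a * ((c : G) ^ n)⁻¹) ∪ (pre h W : Set G)) := by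
  set K := Subgroup.closure
    ((Set.range fun n : ℕ => (c : G) ^ n * a * ((c : G) ^ n)⁻¹) ∪ (pre h W : Set G)) with hK
  have hz : z ∈ K := Subgroup.subset_closure (Or.inr (z_mem_pre h W))
  have key : ∀ v, v ∈ AddSubgroup.closure
      ((Set.range fun n : ℕ => pi c ^ n • eta a) ∪ (W : Set L2)) →
      ∃ q ∈ Q, eta q = v ∧ q ∈ K := by
    intro v hv
    refine AddSubgroup.closure_induction (p := fun v _ => ∃ q ∈ Q, eta q = v ∧ q ∈ K)
      ?_ ?_ ?_ ?_ hv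
    · rintro w (⟨n, rfl⟩ | hw)
      · obtain ⟨h1, h2⟩ := eta_pow_conj h c ha n
        exact ⟨_, h1, h2, Subgroup.subset_closure (Or.inl ⟨n, rfl⟩)⟩
      · obtain ⟨q, hq, hqw⟩ := h.eta_surj w
        exact ⟨q, hq, hqw, Subgroup.subset_closure (Or.inr ⟨hq, by rw [hqw]; exact hw⟩)⟩
    · exact ⟨1, Q.one_mem, h.eta_one, K.one_mem⟩
    · rintro x y _ _ ⟨q, hq, hqx, hqK⟩ ⟨r, hr, hry, hrK⟩
      exact ⟨q * r, Q.mul_mem hq hr, by rw [h.eta_mul q hq r hr, hqx, hry], K.mul_mem hqK hrK⟩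
    · rintro x _ ⟨q, hq, hqx, hqK⟩
      exact ⟨q, hq, by rw [hqx, neg_eq], hqK⟩
  intro q hq
  obtain ⟨r, hr, hrq, hrK⟩ := key _ (hgen hq.2)
  rcases (h.eta_eq hq.1 hr).1 hrq.symm with rfl | rfl
  · exact hrK
  · exact K.mul_mem hrK hz

/-- Products over the residues. -/
theorem eta_qrProd (c : C) {q : G} (hq : q ∈ Q) :
    qrProd (c : G) q ∈ Q ∧ eta (qrProd (c : G) q) = (qr.map fun i => pi c ^ i • eta q).sum := by
  have hl : ∀ l : List ℕ, (l.map fun i => (c : G) ^ i * q * ((c : G) ^ i)⁻¹).prod ∈ Q ∧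
      eta (l.map fun i => (c : G) ^ i * q * ((c : G) ^ i)⁻¹).prod =
        (l.map fun i => pi c ^ i • eta q).sum := by
    intro l
    induction l with
    | nil => exact ⟨Q.one_mem, h.eta_one⟩
    | cons n l ih =>
      obtain ⟨h1, h2⟩ := eta_pow_conj h c hq n
      rw [List.map_cons, List.prod_cons, List.map_cons, List.sum_cons]
      exact ⟨Q.mul_mem h1 ih.1, by rw [h.eta_mul _ h1 _ ih.1, h2, ih.2]⟩
  exact hl qr

end

/-! ### The element of order 23 -/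

section

variable (h : Chart C Q z eta pi)
include h

/-- The elementary abelian subgroup of order `2 ^ 13`. -/
noncomputable abbrev EE : Subgroup G := pre h W12

variable {y : G} (hyQ : y ∈ Q) (hy : eta y = f0)

theorem EQ : EE h ≤ Q := pre_le h

theorem zE : z ∈ EE h := z_mem_pre h _

include hyQ hy in
theorem yE : y ∈ EE h := ⟨hyQ, by rw [hy]; exact W1_le_W12 f0_mem_W1⟩

include hyQ hy in
/-- The elements of `Q` commuting with `y`. -/
theorem comm_y {a : G} (ha : a ∈ Q) : a * y = y * a ↔ eta a ∈ W23 := by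
  rw [h.comm_iff ha hyQ, hy, mem_W23_iff_bf]

include hyQ hy in
theorem Ey : ∀ e ∈ EE h, e * y = y * e :=
  fun _ he => (comm_y h hyQ hy he.1).2 (W12_le_W23 he.2)

theorem Eab : ∀ e ∈ EE h, ∀ f ∈ EE h, e * f = f * e :=
  fun _ he _ hf => (h.comm_iff he.1 hf.1).2 (bf_W12 he.2 hf.2)

theorem Eself : ∀ q ∈ Q, (∀ e ∈ EE h, q * e = e * q) → q ∈ EE h := by
  intro q hq hc
  refine ⟨hq, mem_W12_of_bf fun w hw => ?_⟩
  obtain ⟨e, he, rfl⟩ := h.eta_surj w
  exact (h.comm_iff hq he).1 (hc e ⟨he, hw⟩)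

include hyQ hy in
/-- `pi` maps `C(z, y)` to the stabiliser of the frame. -/
theorem pi_mem_F (c : C) (hc : (c : G) * y = y * c) : pi c ∈ F := by
  rw [mem_F_iff, ← hy, ← h.eta_conj c y hyQ, hc]
  congr 1
  group

include hyQ hy in
theorem pi_mem_F_iff (c : C) :
    pi c ∈ F ↔ (c : G) * y = y * c ∨ (c : G) * y = y * z * c := by
  have hcQ := h.large.conj_mem c c.2 y hyQ
  rw [mem_F_iff, ← hy, ← h.eta_conj c y hyQ, h.eta_eq hcQ hyQ, mul_inv_eq_iff_eq_mul,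
    mul_inv_eq_iff_eq_mul]

include hyQ hy in
theorem En : ∀ b ∈ cent2 C z y, ∀ e ∈ EE h, b * e * b⁻¹ ∈ EE h := by
  intro b hb e he
  obtain ⟨h1, -, h2⟩ := mem_cent2.1 hb
  have h3 := pi_mem_F h hyQ hy ⟨b, h1⟩ h2
  exact pre_conj h ⟨b, h1⟩ (fun x hx => F_mem_W12 h3 hx) he

include hyQ hy in
/-- The four group is the inverse image of `W1`. -/
theorem pre_W1 : pre h W1 = four z y := by
  have hzz := h.large.z_sq
  have hzy : z * y = y * z := (h.large.comm_z y hyQ).symm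
  apply le_antisymm
  · rintro q ⟨hq, hq'⟩
    have hz : z ∈ four z y := Subgroup.subset_closure (by simp)
    have hy' : y ∈ four z y := Subgroup.subset_closure (by simp)
    rcases (mem_W1 _).1 hq' with h0 | h0
    · rcases (h.eta_zero q hq).1 h0 with rfl | rfl
      · exact Subgroup.one_mem _
      · exact hz
    · rw [← hy] at h0
      rcases (h.eta_eq hq hyQ).1 h0 with rfl | rfl
      · exact hy'
      · exact Subgroup.mul_mem _ hy' hz
  · rw [four, Subgroup.closure_le]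
    rintro t (rfl | ht)
    · exact z_mem_pre h _
    · rw [Set.mem_singleton_iff] at ht
      subst ht
      exact ⟨hyQ, by rw [hy]; exact f0_mem_W1⟩

section

variable {x : G} (hxc : x ∈ C) (hx : pi ⟨x, hxc⟩ = X)

include hyQ hy hx in
theorem genE {e₁ : G} (he : e₁ ∈ Q) (h1 : eta e₁ ∈ W12) (h2 : eta e₁ ∉ W1) :
    ∀ e ∈ EE h, e ∈ Subgroup.closure
      ((Set.range fun n : ℕ => x ^ n * e₁ * (x ^ n)⁻¹) ∪ (four z y : Set G)) := by
  intro e he'
  have := closure_pre h (W := W1) (W' := W12) ⟨x, hxc⟩ he (by rw [hx]; exact gen_W12 h1 h2) e he'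
  rwa [pre_W1 h hyQ hy] at this

include hyQ hy hx in
theorem gen0 {a₁ : G} (ha : a₁ ∈ Q) (h1 : eta a₁ ∈ W23) (h2 : eta a₁ ∉ W12) :
    ∀ a ∈ Q, a * y = y * a → a ∈ Subgroup.closure
      ((Set.range fun n : ℕ => x ^ n * a₁ * (x ^ n)⁻¹) ∪ (EE h : Set G)) := by
  intro a ha' hay
  exact closure_pre h (W := W12) (W' := W23) ⟨x, hxc⟩ ha (by rw [hx]; exact gen_W23 h1 h2) a
    ⟨ha', (comm_y h hyQ hy ha').1 hay⟩

include hyQ hy hx in
theorem qrE : ∀ e ∈ EE h, qrProd x e * e⁻¹ ∈ four z y := by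
  intro e he
  rw [← pre_W1 h hyQ hy]
  obtain ⟨h1, h2⟩ := eta_qrProd h ⟨x, hxc⟩ he.1
  refine ⟨Q.mul_mem h1 (Q.inv_mem he.1), ?_⟩
  rw [h.eta_mul _ h1 _ (Q.inv_mem he.1), h.eta_inv he.1, h2, hx]
  exact sum_X_W12 he.2

include hyQ hy hx in
theorem qr0 : ∀ a ∈ Q, a * y = y * a → qrProd x a ∈ EE h := by
  intro a ha hay
  obtain ⟨h1, h2⟩ := eta_qrProd h ⟨x, hxc⟩ ha
  refine ⟨h1, ?_⟩
  rw [h2, hx]
  exact sum_X_W23 ((comm_y h hyQ hy ha).1 hay)

end

/-- The elements `e₁` and `a₁` exist. -/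
theorem exists_e₁ : ∃ e₁ ∈ Q, eta e₁ ∈ W12 ∧ eta e₁ ∉ W1 := by
  by_contra hn
  push Not at hn
  have h1 : W12 ≤ W1 := by
    intro w hw
    obtain ⟨q, hq, rfl⟩ := h.eta_surj w
    exact hn q hq hw
  have h2 := AddSubgroup.card_dvd_of_le h1
  rw [card_W12, card_W1] at h2
  norm_num at h2

theorem exists_a₁ : ∃ a₁ ∈ Q, eta a₁ ∈ W23 ∧ eta a₁ ∉ W12 := by
  by_contra hn
  push Not at hn
  have h1 : W23 ≤ W12 := by
    intro w hw
    obtain ⟨q, hq, rfl⟩ := h.eta_surj w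
    exact hn q hq hw
  have h2 := AddSubgroup.card_dvd_of_le h1
  rw [card_W23, card_W12] at h2
  norm_num at h2

end

end Cfsg.Agent.H861.RGen
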